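import Cfsg.Agent.TypeM.Two
import Cfsg.Agent.H799.SymSyl
set_option linter.all false

/-!
# Sylow 2-subgroups of groups of type `MT n` (helper799)

`G` has one class of involutions and the centralizer of an involution is a double cover `2.A_n`, `6 ≤ n < 16` (in use
`McL`, `n = 8`, and `Ly`, `n = 11`). Then a Sylow `2`-subgroup of `G` is its own normalizer.
-/

set_option autoImplicit false
set_option linter.style.haveILetI false

namespace Cfsg.Agent.H799.MTSyl

open Subgroup Cfsg.Agent.TypeM.Two Cfsg.Agent.SporRec.TwoAn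

variable {G : Type*} [Group G]

/-- a nontrivial Sylow `2`-subgroup has a central involution -/
theorem exists_central [Finite G] (S : Sylow 2 G) (hS : (S : Subgroup G) ≠ ⊥) :
    ∃ z ∈ (S : Subgroup G), z * z = 1 ∧ z ≠ 1 ∧ ∀ x ∈ (S : Subgroup G), x * z = z * x := by
  haveI : Fact (Nat.Prime 2) := ⟨Nat.prime_two⟩
  haveI : Nontrivial (S : Subgroup G) := (Subgroup.nontrivial_iff_ne_bot _).2 hS
  have hc : Nontrivial (center (S : Subgroup G)) := S.2.center_nontrivial
  obtain ⟨b, hb⟩ : ∃ b : center (S : Subgroup G), orderOf b = 2 := by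
    apply exists_prime_orderOf_dvd_card' 2
    obtain ⟨n, hn⟩ := (S.2.to_subgroup (center (S : Subgroup G))).exists_card_eq
    have h1 : Nat.card (center (S : Subgroup G)) ≠ 1 := fun h => by
      have := Finite.one_lt_card_iff_nontrivial.2 hc
      omega
    rw [hn] at h1 ⊢
    rcases Nat.eq_zero_or_pos n with h2 | h2
    · rw [h2, pow_zero] at h1
      exact absurd rfl h1
    · exact dvd_pow_self 2 h2.ne'
  refine ⟨((b : (S : Subgroup G)) : G), (b : (S : Subgroup G)).2, ?_, ?_, ?_⟩
  · have h1 : b ^ 2 = 1 := (orderOf_dvd_iff_pow_eq_one).1 (dvd_of_eq hb)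
    rw [pow_two] at h1
    exact congrArg (fun x : center (S : Subgroup G) => ((x : (S : Subgroup G)) : G)) h1
  · intro h
    have h1 : b = 1 := Subtype.ext (Subtype.ext h)
    rw [h1, orderOf_one] at hb
    omega
  · intro x hx
    exact congrArg Subtype.val (mem_center_iff.1 b.2 ⟨x, hx⟩)

variable {n : ℕ}

/-- the projection of `C(t)` onto the alternating group -/
def proj (L : MT n G) : centralizer ({L.t} : Set G) →* alternatingGroup (Fin n) :=
  L.K.π.codRestrict (alternatingGroup (Fin n)) L.K.mem_alternating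

theorem proj_surj (L : MT n G) : Function.Surjective (proj L) := by
  intro y
  obtain ⟨g, hg⟩ := L.K.exists_lift y.2
  exact ⟨g, Subtype.ext hg⟩

theorem proj_ker (L : MT n G) (x : centralizer ({L.t} : Set G)) : proj L x = 1 ↔ x = 1 ∨ x = L.K.z := by
  rw [← L.K.ker x]
  exact ⟨fun h => congrArg Subtype.val h, fun h => Subtype.ext h⟩

theorem ne_bot [Finite G] (L : MT n G) (S : Sylow 2 G) : (S : Subgroup G) ≠ ⊥ := by
  haveI : Fact (Nat.Prime 2) := ⟨Nat.prime_two⟩
  intro h
  have h2 : IsPGroup 2 (zpowers L.t) := by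
    rintro ⟨y, hy⟩
    obtain ⟨k, rfl⟩ := mem_zpowers_iff.1 hy
    refine ⟨1, Subtype.ext ?_⟩
    show (L.t ^ k) ^ 2 ^ 1 = 1
    rw [← zpow_natCast, ← zpow_mul, mul_comm, zpow_mul, zpow_natCast, pow_one, pow_two, L.t_mul_t, one_zpow]
  obtain ⟨x, -, hx⟩ := SymSyl.exists_conj_mem S (K := ⊤) le_top (mem_top L.t) h2
  rw [h, mem_bot] at hx
  apply L.t_ne
  have e : L.t = x⁻¹ * (x * L.t * x⁻¹) * x := by group
  rw [e, hx]; group

/-- **A Sylow `2`-subgroup of a group of type `MT n`, `6 ≤ n < 16`, is its own normalizer.** -/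
theorem normalizer_le [Finite G] (h6 : 6 ≤ n) (h16 : n < 16) (L₀ : MT n G) (S : Sylow 2 G) :
    normalizer ((S : Subgroup G) : Set G) ≤ (S : Subgroup G) := by
  haveI : Fact (Nat.Prime 2) := ⟨Nat.prime_two⟩
  obtain ⟨z, hzS, hzz, hz1, hzc⟩ := exists_central S (ne_bot L₀ S)
  obtain ⟨L, rfl⟩ := L₀.exists_rebase hzz hz1
  have hSC : (S : Subgroup G) ≤ centralizer ({L.t} : Set G) := by
    intro x hx
    rw [mem_centralizer_singleton_iff]
    exact hzc x hx
  -- the Sylow subgroup in the centralizer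
  let S' : Sylow 2 (centralizer ({L.t} : Set G)) := S.subtype hSC
  have hS' : ∀ x : centralizer ({L.t} : Set G), x ∈ (S' : Subgroup (centralizer ({L.t} : Set G))) ↔
      (x : G) ∈ (S : Subgroup G) := fun x => Iff.rfl
  have hN' : ∀ x : centralizer ({L.t} : Set G),
      x ∈ normalizer ((S' : Subgroup (centralizer ({L.t} : Set G))) : Set (centralizer ({L.t} : Set G))) →
      x ∈ (S' : Subgroup (centralizer ({L.t} : Set G))) := by
    intro x hx
    let P : Sylow 2 (alternatingGroup (Fin n)) := S'.mapSurjective (proj_surj L)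
    have hP : (P : Subgroup (alternatingGroup (Fin n))) =
      (S' : Subgroup (centralizer ({L.t} : Set G))).map (proj L) := rfl
    have half : ∀ y : centralizer ({L.t} : Set G),
        y ∈ normalizer ((S' : Subgroup (centralizer ({L.t} : Set G))) : Set (centralizer ({L.t} : Set G))) →
        ∀ σ ∈ (P : Subgroup (alternatingGroup (Fin n))), proj L y * σ * (proj L y)⁻¹ ∈
          (P : Subgroup (alternatingGroup (Fin n))) := by
      intro y hy σ hσ
      rw [hP] at hσ ⊢
      obtain ⟨w, hw, rfl⟩ := hσ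
      refine ⟨y * w * y⁻¹, (mem_normalizer_iff.1 hy w).1 hw, by rw [map_mul, map_mul, map_inv]⟩
    have h1 : proj L x ∈ normalizer ((P : Subgroup (alternatingGroup (Fin n))) : Set (alternatingGroup (Fin n))) := by
      rw [mem_normalizer_iff]
      intro σ
      refine ⟨half x hx σ, fun h => ?_⟩
      have h2 := half x⁻¹ (inv_mem hx) _ h
      rw [map_inv] at h2
      have e : (proj L x)⁻¹ * (proj L x * σ * (proj L x)⁻¹) * (proj L x)⁻¹⁻¹ = σ := by group
      rwa [e] at h2
    rw [SymSyl.normalizer_alt (by rwa [Fintype.card_fin]) P, hP] at h1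
    obtain ⟨s, hs, hsx⟩ := h1
    have h2 : proj L (s⁻¹ * x) = 1 := by rw [map_mul, map_inv, hsx, inv_mul_cancel]
    rcases (proj_ker L _).1 h2 with h3 | h3
    · have h4 : x = s := (inv_mul_eq_one.1 h3).symm
      rw [h4]; exact hs
    · have h4 : x = s * L.K.z := by rw [← h3]; group
      rw [h4]
      refine mul_mem hs ((hS' _).2 ?_)
      rw [L.hz]; exact hzS
  -- the normalizer centralizes `z`
  intro g hg
  have hzg : g * L.t * g⁻¹ = L.t := by
    by_contra hne
    set w : G := g * L.t * g⁻¹ with hw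
    have hwS : w ∈ (S : Subgroup G) := (mem_normalizer_iff.1 hg _).1 hzS
    have hwc : ∀ x ∈ (S : Subgroup G), x * w = w * x := by
      intro x hx
      have h1 : g⁻¹ * x * g ∈ (S : Subgroup G) := by
        have := (mem_normalizer_iff.1 (inv_mem hg) x).1 hx
        rwa [inv_inv] at this
      have h2 := hzc _ h1
      calc x * w = g * ((g⁻¹ * x * g) * L.t) * g⁻¹ := by rw [hw]; group
        _ = g * (L.t * (g⁻¹ * x * g)) * g⁻¹ := by rw [h2]
        _ = w * x := by rw [hw]; group
    have hww : w * w = 1 := by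
      calc w * w = g * (L.t * L.t) * g⁻¹ := by rw [hw]; group
        _ = 1 := by rw [hzz]; group
    have hw1 : w ≠ 1 := by
      intro h
      apply hz1
      have e : L.t = g⁻¹ * w * g := by rw [hw]; group
      rw [e, h]; group
    have hwt : w * L.t = L.t * w := hzc w hwS
    have hrr : w * L.t * (w * L.t) = 1 := by
      calc w * L.t * (w * L.t) = w * (L.t * w) * L.t := by group
        _ = (w * w) * (L.t * L.t) := by rw [← hwt]; group
        _ = 1 := by rw [hww, hzz, one_mul]
    have hr1 : w * L.t ≠ 1 := by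
      intro h
      apply hne
      calc w = w * L.t * L.t⁻¹ := by group
        _ = L.t := by rw [h, one_mul, L.t_inv]
    have hr2 : w * L.t ≠ L.t := fun h => hw1 (mul_eq_right.1 h)
    have hrt : (w * L.t) * L.t = L.t * (w * L.t) := by rw [← mul_assoc, hwt]
    obtain ⟨c, hct, hc⟩ := L.conj_in_centralizer h16 hwt hrt hww hw1 hne hrr hr1 hr2
    have hcC : c⁻¹ ∈ centralizer ({L.t} : Set G) := inv_mem (mem_centralizer_singleton_iff.2 hct)
    have hwC : w ∈ centralizer ({L.t} : Set G) := mem_centralizer_singleton_iff.2 hwt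
    have hcent : ∀ y : centralizer ({L.t} : Set G), (∀ x ∈ (S : Subgroup G), x * (y : G) = y * x) →
        y ∈ centralizer ((S' : Subgroup (centralizer ({L.t} : Set G))) : Set (centralizer ({L.t} : Set G))) := by
      intro y hy
      rw [mem_centralizer_iff]
      intro x hx
      exact Subtype.ext (hy x hx)
    obtain ⟨m, hm, hme⟩ := S'.conj_eq_normalizer_conj_of_mem_centralizer ⟨w, hwC⟩ ⟨c⁻¹, hcC⟩
      (hcent _ hwc) (hcent _ (by
        intro x hx
        show x * (c⁻¹⁻¹ * w * c⁻¹) = c⁻¹⁻¹ * w * c⁻¹ * x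
        rw [inv_inv, hc]
        calc x * (w * L.t) = x * w * L.t := (mul_assoc _ _ _).symm
          _ = w * x * L.t := by rw [hwc x hx]
          _ = w * (x * L.t) := mul_assoc _ _ _
          _ = w * (L.t * x) := by rw [hzc x hx]
          _ = w * L.t * x := (mul_assoc _ _ _).symm))
    have h1 := congrArg Subtype.val hme
    have h2 : c⁻¹⁻¹ * w * c⁻¹ = (m : G)⁻¹ * w * m := h1
    have h3 : (m : G) ∈ (S : Subgroup G) := (hS' _).1 (hN' m hm)
    rw [inv_inv, hc] at h2
    have h4 : (m : G)⁻¹ * w * m = w := by rw [mul_assoc, ← hwc _ h3]; group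
    rw [h4] at h2
    exact hz1 (mul_eq_left.1 h2)
  have hgC : g ∈ centralizer ({L.t} : Set G) := by
    rw [mem_centralizer_singleton_iff]
    exact mul_inv_eq_iff_eq_mul.1 hzg
  have h1 : (⟨g, hgC⟩ : centralizer ({L.t} : Set G)) ∈
      normalizer ((S' : Subgroup (centralizer ({L.t} : Set G))) : Set (centralizer ({L.t} : Set G))) := by
    rw [mem_normalizer_iff]
    intro x
    exact mem_normalizer_iff.1 hg x
  exact (hS' _).1 (hN' _ h1)

end Cfsg.Agent.H799.MTSyl
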