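import Cfsg.Agent.H799.JSheet
import Cfsg.Agent.S1620
set_option linter.all false

/-!
# The 2-fusion systems of `J2` and `J3` are simple (helper799)
-/

set_option autoImplicit false

namespace Cfsg.Agent.H799.JTwoThree

open Subgroup Cfsg Cfsg.Agent.OddHalf.D8.Sheet Cfsg.Agent.J3Type.OneClass Cfsg.Agent.J2Type.Model
open Cfsg.Agent.J2Type.CStruct Cfsg.Agent.KFacts Cfsg.Agent.Foote Cfsg.Agent.Foote.Row.JThree

universe u

/-- the sheet data give a nonabelian group -/
theorem not_comm {K : Type u} [Group K] {z : K} {P R : Subgroup K} (hs : Cor z P R) : ¬ ∀ a b : K, a * b = b * a := by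
  intro h
  obtain ⟨k, -, hk⟩ := hs.out1
  apply hk
  rw [h k z, mul_inv_cancel_right]

theorem isSimple {K : Type u} [Group K] [Finite K] [IsSimpleGroup K] {z : K}
    {Q : Subgroup (centralizer ({z} : Set K))} {v : Fin 5 → centralizer ({z} : Set K)}
    {ρ : centralizer ({z} : Set K) →* SP} (hc : Nat.card (centralizer ({z} : Set K)) = 1920)
    (M : IsModel Q (zc z) v ρ)
    (hs : Cor z (centralizer ({z} : Set K)) (Q.map (centralizer ({z} : Set K)).subtype)) (S : Sylow 2 K) :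
    (groupFusionSystem (S : Subgroup K)).IsSimple 2 :=
  JSheet.isSimple_of_model (perfect_of_simple (not_comm hs)) hc M hs S

theorem jthree {K : Type u} [Group K] [Finite K] (h : Spor.IsoJ3 K) (S : Sylow 2 K) :
    (groupFusionSystem (S : Subgroup K)).IsSimple 2 := by
  obtain ⟨hsimple, -⟩ := J3.exists_facts h
  obtain ⟨z, Q, v, ρ, M, hc, -, hs⟩ := sheet' K h
  exact isSimple hc M (Cor.of_sheetE hs) S

open Cfsg.Agent.KFacts.J2.Basic Cfsg.Agent.Co2Type.Quad Cfsg.Agent.OddHalf.D8.JTwo.Sheet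

/-- the sheet of `J₂` -/
theorem cor_jtwo {K : Type u} [Group K] [Finite K] (h : Spor.IsoJ2 K) :
    ∃ (z : K) (Q : Subgroup (centralizer ({z} : Set K))) (v : Fin 5 → centralizer ({z} : Set K))
      (ρ : centralizer ({z} : Set K) →* SP), IsModel Q (zc z) v ρ ∧
      Nat.card (centralizer ({z} : Set K)) = 1920 ∧
      Cor z (centralizer ({z} : Set K)) (Q.map (centralizer ({z} : Set K)).subtype) := by
  obtain ⟨t, u, Q, v, ρ, D⟩ := J2.Facts.exists_dat_of h
  have M := D.M
  have hL := J3Sheet.large D.cardC M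
  have hs := J2.SheetX.sheetX D
  obtain ⟨n, hn1, hn2⟩ := D.exists_n
  have hw : n⁻¹ * t * n = t * v 0 := by
    have e1 : n⁻¹ * (v 0 : K) * n = t := by rw [← hn1]; group
    calc n⁻¹ * t * n = n⁻¹ * (t * v 0) * n * (n⁻¹ * (v 0 : K) * n)⁻¹ := by group
      _ = n⁻¹ * (n * v 0 * n⁻¹) * n * t⁻¹ := by rw [hn2, e1]
      _ = v 0 * t⁻¹ := by group
      _ = v 0 * t := by rw [inv_eq_of_mul_eq_one_left D.tt]
      _ = t * v 0 := D.vt 0
  have hvQ : ∀ i, (v i : K) ∈ Q.map (centralizer ({t} : Set K)).subtype := fun i => ⟨v i, M.v_mem i, rfl⟩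
  have hcm : ∀ i j : Fin 5, i ≠ j → i ≠ 0 → j ≠ 0 →
      (v i : K) * v j * (n⁻¹ * t * n) = (n⁻¹ * t * n) * (v i * v j) := by
    intro i j hij hi hj
    rw [hw]
    have a1 := D.v_anti hj
    have a2 := D.v_anti hi
    have t1 := D.vt i
    have t2 := D.vt j
    calc (v i : K) * v j * (t * v 0) = v i * (v j * t) * v 0 := by group
      _ = (v i * t) * (v j * v 0) := by rw [t2]; group
      _ = t * v i * (t * (v 0 * v j)) := by rw [t1, a1]
      _ = t * (v i * t) * (v 0 * v j) := by group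
      _ = (t * t) * (v i * v 0) * v j := by rw [t1]; group
      _ = t * (v 0 * v i) * v j := by rw [D.tt, a2]; group
      _ = t * v 0 * (v i * v j) := by group
  have hab : (v 1 * v 2 : K) * (v 2 * v 3) = (v 2 * v 3) * (v 1 * v 2) * t := by
    have a31 := D.v_anti (i := 3) (j := 1) (by decide)
    have a21 := D.v_anti (i := 2) (j := 1) (by decide)
    have a32 := D.v_anti (i := 3) (j := 2) (by decide)
    have t1 := D.vt 1
    have t2 := D.vt 2
    have t3 := D.vt 3
    have hR : (v 2 * v 3 : K) * (v 1 * v 2) = t * (v 1 * v 3) := by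
      calc (v 2 * v 3 : K) * (v 1 * v 2) = v 2 * (v 3 * v 1) * v 2 := by group
        _ = (v 2 * t) * v 1 * (v 3 * v 2) := by rw [a31]; group
        _ = t * (v 2 * v 1) * (v 3 * v 2) := by rw [t2]; group
        _ = t * (t * (v 1 * v 2)) * (t * (v 2 * v 3)) := by rw [a21, a32]
        _ = (t * t) * (v 1 * (v 2 * t)) * (v 2 * v 3) := by group
        _ = (v 1 * t) * (v 2 * v 2) * v 3 := by rw [D.tt, t2]; group
        _ = t * (v 1 * v 3) := by rw [t1, D.vv 2]; group
    rw [hR]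
    calc (v 1 * v 2 : K) * (v 2 * v 3) = v 1 * (v 2 * v 2) * v 3 := by group
      _ = v 1 * v 3 := by rw [D.vv 2]; group
      _ = (t * t) * (v 1 * v 3) := by rw [D.tt, one_mul]
      _ = t * (v 1 * v 3) * t := by
        rw [mul_assoc t t, mul_assoc t (v 1 * v 3 : K) t]
        congr 1
        calc t * (v 1 * v 3 : K) = (t * v 1) * v 3 := by group
          _ = v 1 * (t * v 3) := by rw [← t1]; group
          _ = v 1 * v 3 * t := by rw [← t3]; group
  have hnz : n * t * n⁻¹ ≠ t := by rw [hn1]; exact D.v_ne_t 0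
  have o2 := out2_of_large hL (n := n) (a := v 1 * v 2) (b := v 2 * v 3)
    (mul_mem (hvQ 1) (hvQ 2)) (mul_mem (hvQ 2) (hvQ 3)) hab (hcm 1 2 (by decide) (by decide) (by decide))
    (hcm 2 3 (by decide) (by decide) (by decide)) hnz
  have o1 : ∃ k : K, k * t * k⁻¹ ∈ centralizer ({t} : Set K) ∧ k * t * k⁻¹ ≠ t :=
    ⟨n, by rw [hn1]; exact (v 0).2, hnz⟩
  exact ⟨t, Q, v, ρ, M, D.cardC, cor_of_sheetX hs o1 o2⟩

theorem simple_jtwo {K : Type u} [Group K] (h : Spor.IsoJ2 K) : IsSimpleGroup K := by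
  obtain ⟨e⟩ := h
  have h1 : IsSimpleGroup Spor.J2 := Cfsg.Agent.S1620.result.1
  have : Nontrivial K := e.toEquiv.nontrivial
  exact IsSimpleGroup.isSimpleGroup_of_surjective e.symm.toMonoidHom e.symm.surjective

theorem jtwo {K : Type u} [Group K] [Finite K] (h : Spor.IsoJ2 K) (S : Sylow 2 K) :
    (groupFusionSystem (S : Subgroup K)).IsSimple 2 := by
  have hsimple := simple_jtwo h
  obtain ⟨z, Q, v, ρ, M, hc, hs⟩ := cor_jtwo h
  exact isSimple hc M hs S

end Cfsg.Agent.H799.JTwoThree
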