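import Cfsg.Agent.H769.SpSix
import Cfsg.Agent.QTNorm.Main
import Cfsg.Agent.QTNorm.SporM12
import Cfsg.Agent.QTNorm.SporM22S
import Cfsg.Agent.QTNorm.SporJ4
import Cfsg.Agent.H868.SelfN23
import Cfsg.Agent.H799.JTwoThree
import Cfsg.Agent.H799.MTSyl
import Cfsg.Agent.TypeM.FactsMcL
import Cfsg.Agent.TypeM.FactsLy
import Cfsg.Agent.Schreier.JThreeSylow
import Cfsg.Agent.S1619
import Cfsg.Agent.KFacts.FiTTh.Has
import Cfsg.Agent.KFacts.FiTTh.BasInv
import Cfsg.Agent.S1688
import Cfsg.Agent.S1689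
import Cfsg.Agent.FastGrp
import Cfsg.Agent.Prune
set_option linter.all false

section
prune_inst 0x7f00000000000000000000000000000000000000000000000000000000000000000000000000000000000000000000000000000000000000000000000000000000000000000000000000000000000000003fffffffffffffffffffffffffffbeffbdffffffff

-- part: H799/RowsTwoB
section
set_option linter.all false
open scoped Cfsg.Agent.FastGrp

/-!
# S5161: the rows of the Mathieu groups, `J₂`, `J₃`, `McL` and `Ly` (helper799)
-/

set_option autoImplicit false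

namespace Cfsg.Agent.H799.RowsTwoB

open Subgroup Cfsg Cfsg.Agent.H747 Cfsg.Agent.QTNorm

theorem row_of_selfN {K : Type*} [Group K] (h : SelfN K) : RowTwo K := by
  obtain ⟨T⟩ : Nonempty (Sylow 2 K) := inferInstance
  exact Or.inl (OddRow.of_self T (h T))

theorem row_of_phi {K : Type*} [Group K] (T : Sylow 2 K) (h : JSheet.Phi (T : Subgroup K)) : RowTwo K := by
  obtain ⟨V, h1, h2, h3, h4⟩ := h
  refine Or.inl (OddRow.of_one T h1 h2 (inf_le_right.trans h3) fun g hg => ⟨1, one_mem _, ?_⟩)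
  rw [mul_one]
  have h5 : closure {x | ∃ n ∈ normalizer (V : Set K), ∃ s ∈ (T : Subgroup K), x = n * s * n⁻¹} ≤ twoGen V := by
    rw [closure_le]
    rintro _ ⟨n, hn, s, hs, rfl⟩
    refine subset_closure ⟨mul_mem (mul_mem hn (h2 hs)) (inv_mem hn), ?_⟩
    obtain ⟨k, hk⟩ := T.2 ⟨s, hs⟩
    refine ⟨k, ?_⟩
    have h6 : s ^ 2 ^ k = 1 := congrArg Subtype.val hk
    rw [conj_pow, h6]
    group
  exact h5 (h4 hg)

theorem row_m11 {K : Type*} [Group K] (h : Spor.IsoM11 K) : RowTwo K := row_of_selfN (selfN_m11 h)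

theorem row_m12 {K : Type*} [Group K] (h : Spor.IsoM12 K) : RowTwo K := row_of_selfN (selfN_m12 h)

theorem row_m22 {K : Type*} [Group K] (h : Spor.IsoM22 K) : RowTwo K := by
  obtain ⟨e⟩ := h
  exact RowTwo.congr e.symm (row_of_selfN selfN_M22)

theorem row_m23 {K : Type*} [Group K] (h : Spor.IsoM23 K) : RowTwo K := by
  obtain ⟨e⟩ := h
  exact RowTwo.congr e.symm (row_of_selfN Cfsg.Agent.H868.selfN_M23)

theorem row_m24 {K : Type*} [Group K] (h : Spor.IsoM24 K) : RowTwo K := row_of_selfN (selfN_m24 h)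

theorem row_j3 {K : Type*} [Group K] (h : Spor.IsoJ3 K) : RowTwo K := by
  have hfin : Finite K := by
    obtain ⟨F, _, _, ω, hF, hω, ⟨e⟩⟩ := h
    have H := Cfsg.Agent.J3.Core.good_of_card hF hω
    have hc := Cfsg.Agent.J3.Simple.card_J3 hF H
    have : Finite (Cfsg.Spor.J3 F ω) := Nat.finite_of_card_ne_zero (by rw [hc]; norm_num)
    exact Finite.of_equiv _ e.symm.toEquiv
  obtain ⟨z, Q, v, ρ, M, hc, -, hs'⟩ := Cfsg.Agent.Foote.Row.JThree.sheet' K h
  obtain ⟨S, hS, -⟩ := JSheet.phi_of_model hc M (Cfsg.Agent.Foote.Cor.of_sheetE hs')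
  exact row_of_phi S hS

theorem row_j2 {K : Type*} [Group K] (h : Spor.IsoJ2 K) : RowTwo K := by
  have hfin : Finite K := by
    obtain ⟨e⟩ := h
    have : Finite Spor.J2 := Nat.finite_of_card_ne_zero (by rw [Cfsg.Agent.S1619.result.2.2.2]; norm_num)
    exact Finite.of_equiv _ e.symm.toEquiv
  obtain ⟨z, Q, v, ρ, M, hc, hs⟩ := JTwoThree.cor_jtwo h
  obtain ⟨S, hS, -⟩ := JSheet.phi_of_model hc M hs
  exact row_of_phi S hS

theorem row_mcl {K : Type*} [Group K] (h : Spor.IsoMcL K) : RowTwo K := by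
  obtain ⟨hf, hs, -, ⟨L⟩⟩ := Cfsg.Agent.TypeM.FactsMcL.facts h
  exact row_of_selfN fun T => MTSyl.normalizer_le (by norm_num) (by norm_num) L T

theorem row_ly {K : Type*} [Group K] (h : Spor.IsoLy K) : RowTwo K := by
  obtain ⟨hf, hs, -, ⟨L⟩⟩ := Cfsg.Agent.TypeM.FactsLy.facts h
  exact row_of_selfN fun T => MTSyl.normalizer_le (by norm_num) (by norm_num) L T

end Cfsg.Agent.H799.RowsTwoB
end

-- part: H768/SelfFi
section
set_option linter.all false
open scoped Cfsg.Agent.FastGrp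

/-!
# Self-normalising Sylow 2-subgroups: `Fi23`, `Fi22` (helper768)

* `SelfN.of_odd_index` : subgroups of odd index;
* `SelfN.quot` : quotients by normal 2-subgroups;
* `selfN_fi23`, `selfN_fi22`.
-/

set_option autoImplicit false

namespace Cfsg.Agent.H768.SelfFi

open Cfsg Subgroup Cfsg.Agent.QTNorm

universe u

section General

variable {G : Type*} [Group G] [Finite G]

/-- subgroups of odd index of a group with self-normalising Sylow 2-subgroups -/
theorem selfN_of_odd_index (h : SelfN G) (H : Subgroup G) (hi : ¬ 2 ∣ H.index) : SelfN H := by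
  have hf : Fact (Nat.Prime 2) := ⟨Nat.prime_two⟩
  obtain ⟨T⟩ : Nonempty (Sylow 2 H) := inferInstance
  have hp : IsPGroup 2 ((T : Subgroup H).map H.subtype) := T.isPGroup'.map _
  have hi' : ¬ 2 ∣ ((T : Subgroup H).map H.subtype).index := by
    rw [Subgroup.index_map_subtype]
    exact Nat.prime_two.not_dvd_mul T.not_dvd_index hi
  refine selfN_of_odd T fun x hx ho => ?_
  have h1 := h (hp.toSylow hi')
  have h2 : (x : G) ∈ normalizer ((((T : Subgroup H).map H.subtype) : Subgroup G) : Set G) := by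
    rw [mem_normalizer_iff] at hx ⊢
    intro y
    constructor
    · rintro ⟨t, ht, rfl⟩
      exact ⟨x * t * x⁻¹, (hx t).1 ht, rfl⟩
    · rintro ⟨t, ht, he⟩
      have hy : y = (x : G)⁻¹ * t * x := by
        have : (t : G) = (x : G) * y * (x : G)⁻¹ := he
        rw [this]; group
      have h3 : t = x * (x⁻¹ * t * x) * x⁻¹ := by group
      rw [h3] at ht
      exact ⟨x⁻¹ * t * x, (hx _).2 ht, by rw [hy]; rfl⟩
  have h3 := h1 h2
  exact Subtype.ext (by
    have := eq_one_of_odd_mem (hp.toSylow hi') h3 (by rw [orderOf_coe]; exact ho)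
    exact this)

/-- quotients by normal 2-subgroups -/
theorem selfN_quot (h : SelfN G) (Z : Subgroup G) [Z.Normal] (hZ : IsPGroup 2 Z) : SelfN (G ⧸ Z) := by
  have hf : Fact (Nat.Prime 2) := ⟨Nat.prime_two⟩
  obtain ⟨T⟩ : Nonempty (Sylow 2 G) := inferInstance
  have hZT : Z ≤ (T : Subgroup G) := by
    obtain ⟨P, hP⟩ := hZ.exists_le_sylow
    obtain ⟨g, hg⟩ := MulAction.exists_smul_eq G P T
    intro z hz
    have h1 : g⁻¹ * z * g ∈ Z := by
      have := (inferInstance : Z.Normal).conj_mem z hz g⁻¹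
      rwa [inv_inv] at this
    rw [← hg, Sylow.coe_subgroup_smul]
    exact ⟨g⁻¹ * z * g, hP h1, by
      show g * (g⁻¹ * z * g) * g⁻¹ = z
      group⟩
  have hs := QuotientGroup.mk'_surjective Z
  have hp : IsPGroup 2 ((T : Subgroup G).map (QuotientGroup.mk' Z)) := T.isPGroup'.map _
  have hi' : ¬ 2 ∣ ((T : Subgroup G).map (QuotientGroup.mk' Z)).index := by
    rw [Subgroup.index_map, QuotientGroup.ker_mk', sup_eq_left.2 hZT,
      MonoidHom.range_eq_top.2 hs, Subgroup.index_top, mul_one]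
    exact T.not_dvd_index
  refine SelfN.of_one (hp.toSylow hi') ?_
  intro x hx
  obtain ⟨g, rfl⟩ := hs x
  have hx' : QuotientGroup.mk' Z g ∈ normalizer ((((T : Subgroup G).map (QuotientGroup.mk' Z)) :
    Subgroup (G ⧸ Z)) : Set (G ⧸ Z)) := hx
  have hmem : ∀ y : G, QuotientGroup.mk' Z y ∈ (T : Subgroup G).map (QuotientGroup.mk' Z) ↔ y ∈ (T : Subgroup G) := by
    intro y
    constructor
    · rintro ⟨t, ht, he⟩
      have h1 : t⁻¹ * y ∈ Z := by
        rw [← QuotientGroup.eq]
        exact he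
      have h2 : y = t * (t⁻¹ * y) := by group
      rw [h2]
      exact mul_mem ht (hZT h1)
    · intro hy
      exact ⟨y, hy, rfl⟩
  have h1 : g ∈ normalizer ((T : Subgroup G) : Set G) := by
    rw [mem_normalizer_iff] at hx' ⊢
    intro y
    have h2 := hx' (QuotientGroup.mk' Z y)
    rw [← map_inv, ← map_mul, ← map_mul, hmem, hmem] at h2
    exact h2
  exact ⟨g, h T h1, rfl⟩

end General

open Cfsg.Agent.KFacts.FiTTh Cfsg.Agent.KFacts.FiTTh.BasDef in
/-- **`Fi23`** -/
theorem selfN_fi23 : SelfN Spor.Fi23 := by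
  have hfin := BasInv.finite
  obtain ⟨S, hS⟩ := Has.sheet
  refine SelfN.of_one S ?_
  have hA : normalizer ((S : Subgroup Spor.Fi23) : Set Spor.Fi23) ≤ normalizer (A BasFi.e : Set Spor.Fi23) := by
    intro x hx
    have key : ∀ y ∈ normalizer ((S : Subgroup Spor.Fi23) : Set Spor.Fi23),
        (A BasFi.e).map (MulAut.conj y).toMonoidHom = A BasFi.e := by
      intro y hy
      apply hS.uniq
      · rintro _ ⟨a, ha, rfl⟩
        exact (mem_normalizer_iff.1 hy a).1 (hS.AS ha)
      · rintro _ ⟨a, ha, rfl⟩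
        rw [← map_mul, hS.sq a ha, map_one]
      · rw [← Nat.card_congr ((A BasFi.e).equivMapOfInjective _ (MulAut.conj y).injective).toEquiv]
        exact hS.cardA.ge
    rw [mem_normalizer_iff]
    intro a
    constructor
    · intro ha
      rw [← key x hx]
      exact ⟨a, ha, rfl⟩
    · intro ha
      have h1 := key x⁻¹ (inv_mem hx)
      rw [← h1]
      exact ⟨_, ha, by
        show x⁻¹ * (x * a * x⁻¹) * x⁻¹⁻¹ = a
        group⟩
  refine self_of_hom S _ hA BasInv.base.ind BasInv.base.ind_surj (fun c hc => ?_) H868.selfN_M23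
  have h1 := (BasInv.base.ind_ker c).1 hc
  refine ⟨1, ?_⟩
  apply Subtype.ext
  rw [pow_one, pow_two]
  exact BasInv.base.sq_A h1

/-- **`Fi22`** -/
theorem selfN_fi22 : SelfN Spor.Fi22 := by
  have hfin := Cfsg.Agent.KFacts.FiTTh.BasInv.finite
  have hf : Fact (Nat.Prime 2) := ⟨Nat.prime_two⟩
  obtain ⟨hc, ⟨e⟩, -⟩ := Cfsg.Agent.S1688.result
  have h2 := Cfsg.Agent.S1689.result.1
  have h3 := selfN_of_odd_index selfN_fi23 _ (by rw [h2]; norm_num)
  exact (selfN_quot h3 _ (IsPGroup.of_card (p := 2) (n := 1) (by rw [hc]; norm_num))).congr e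

end Cfsg.Agent.H768.SelfFi
end
end
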